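import Groth.Agent.QuotSec.Family
import Groth.Agent.DescLib.SigmaLocal
import Groth.Agent.GrpSchLib.Coincidence
import Groth.Agent.ThirdIso.Basic
import Groth.Agent.EtFound.Descent
import Groth.Prelude.Def_AlgSp

/-!
# Sections of quotients by equivalence relations with closed or open graph as subschemes
-/

universe u

set_option autoImplicit false
set_option backward.isDefEq.respectTransparency false
set_option backward.isDefEq.respectTransparency.types false
set_option linter.style.haveILetI false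
set_option maxHeartbeats 1000000

open CategoryTheory CategoryTheory.Limits MonoidalCategory CartesianMonoidalCategory AlgebraicGeometry
open Desc Groth.Agent.DescLib

namespace Groth.Agent.QuotSec

variable {S : Scheme.{u}} {R U T : Over S} (s t : R ⟶ U) {κ : Type u} {W : κ → Over S} (π : ∀ j, W j ⟶ T)
  (u : ∀ j, W j ⟶ U)

/-- The relation on points. -/
def Rel {T' : Over S} (a b : T' ⟶ U) : Prop := ∃ r : T' ⟶ R, r ≫ t = a ∧ r ≫ s = b

/-- The points of the subscheme attached to the local sections. -/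
def Good {T' : Over S} (c : T' ⟶ U ⊗ T) : Prop :=
  ∀ ⦃T'' : Over S⦄ (g : T'' ⟶ T') ⦃j : κ⦄ (x : T'' ⟶ W j), x ≫ π j = g ≫ c ≫ snd U T →
    Rel s t (g ≫ c ≫ fst U T) (x ≫ u j)

/-- Local sections are compatible up to the relation. -/
def Compatible : Prop :=
  ∀ ⦃T' : Over S⦄ ⦃j j' : κ⦄ (x : T' ⟶ W j) (x' : T' ⟶ W j'), x ≫ π j = x' ≫ π j' → Rel s t (x ≫ u j) (x' ≫ u j')

variable {s t π u}

theorem Rel.refl (h : AlgSp.IsEqvRel s t) {T' : Over S} (a : T' ⟶ U) : Rel s t a a := (h.equivalence T').refl a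

theorem Rel.symm (h : AlgSp.IsEqvRel s t) {T' : Over S} {a b : T' ⟶ U} (e : Rel s t a b) : Rel s t b a :=
  (h.equivalence T').symm e

theorem Rel.trans (h : AlgSp.IsEqvRel s t) {T' : Over S} {a b c : T' ⟶ U} (e : Rel s t a b) (e' : Rel s t b c) :
    Rel s t a c :=
  (h.equivalence T').trans e e'

theorem Rel.comp {T' T'' : Over S} (g : T'' ⟶ T') {a b : T' ⟶ U} (e : Rel s t a b) :
    Rel s t (g ≫ a) (g ≫ b) := by
  obtain ⟨r, rfl, rfl⟩ := e
  exact ⟨g ≫ r, Category.assoc _ _ _, Category.assoc _ _ _⟩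

variable (s t u) in
/-- The local subscheme. -/
noncomputable abbrev Zloc (j : κ) : Over S := pullback (lift t s) (U ◁ u j)

variable (s t u) in
/-- Its embedding. -/
noncomputable abbrev qloc (j : κ) : Zloc s t u j ⟶ U ⊗ W j := pullback.snd (lift t s) (U ◁ u j)

theorem factor_iff_rel {T' : Over S} {j : κ} (x : T' ⟶ U ⊗ W j) :
    (∃ v : T' ⟶ Zloc s t u j, v ≫ qloc s t u j = x) ↔ Rel s t (x ≫ fst U (W j)) ((x ≫ snd U (W j)) ≫ u j) := by
  constructor
  · rintro ⟨v, rfl⟩
    refine ⟨v ≫ pullback.fst (lift t s) (U ◁ u j), ?_, ?_⟩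
    · have e := congrArg (fun z => v ≫ z ≫ fst U U) (pullback.condition (f := lift t s) (g := U ◁ u j))
      simpa using e
    · have e := congrArg (fun z => v ≫ z ≫ snd U U) (pullback.condition (f := lift t s) (g := U ◁ u j))
      simpa using e
  · rintro ⟨r, h1, h2⟩
    refine ⟨pullback.lift r x ?_, pullback.lift_snd _ _ _⟩
    refine CartesianMonoidalCategory.hom_ext _ _ ?_ ?_
    · simpa using h1
    · simpa using h2

theorem lifts_iff_rel {T' : Over S} {j : κ} (x : T' ⟶ U ⊗ W j) :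
    Nonempty (Lifts (Over.mk (qloc s t u j).left) x.left) ↔
      Rel s t (x ≫ fst U (W j)) ((x ≫ snd U (W j)) ≫ u j) := by
  rw [← factor_iff_rel]
  constructor
  · rintro ⟨v⟩
    refine ⟨Over.homMk v.1 ?_, Over.OverMorphism.ext v.2⟩
    have e : v.1 ≫ (qloc s t u j).left = x.left := v.2
    rw [← Over.w (qloc s t u j), ← Category.assoc, e, Over.w x]
  · rintro ⟨v, hv⟩
    exact ⟨⟨v.left, congrArg CommaMorphism.left hv⟩⟩

theorem mono_qloc (h : AlgSp.IsEqvRel s t) (j : κ) : Mono (qloc s t u j) := by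
  haveI : Mono (lift t s) := ⟨fun {Z} a b e => by
    have e1 := congrArg (fun z => z ≫ fst U U) e
    have e2 := congrArg (fun z => z ≫ snd U U) e
    simp only [Category.assoc, lift_fst, lift_snd] at e1 e2
    exact h.injective Z a b e1 e2⟩
  infer_instance

variable (π) in
/-- The base change of the covering family to `U ⊗ T`. -/
noncomputable abbrev bigFam (j : κ) : (U ⊗ W j).left ⟶ (U ⊗ T).left := (U ◁ π j).left

theorem bigFam_mem (hπ : Presieve.ofArrows (fun j => (W j).left) (fun j => (π j).left) ∈ Scheme.fpqcPrecoverage T.left) :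
    Presieve.ofArrows (fun j => (U ⊗ W j).left) (bigFam (U := U) π) ∈ Scheme.fpqcPrecoverage (U ⊗ T).left :=
  Precoverage.mem_coverings_of_isPullback _ hπ (snd U T).left _ (fun j => (snd U (W j)).left)
    fun j => GrpSchLib.isPullback_whiskerLeft (π j)

/-- Global points of the relation glue from an fpqc covering family. -/
theorem rel_of_local (h : AlgSp.IsEqvRel s t)
    (hπ : Presieve.ofArrows (fun j => (W j).left) (fun j => (π j).left) ∈ Scheme.fpqcPrecoverage T.left)
    {T' : Over S} (τ : T' ⟶ T) {a b : T' ⟶ U}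
    (hab : ∀ ⦃T'' : Over S⦄ (g : T'' ⟶ T') ⦃j : κ⦄ (x : T'' ⟶ W j), x ≫ π j = g ≫ τ → Rel s t (g ≫ a) (g ≫ b)) :
    Rel s t a b := by
  have hcov := factorSieve_mem_of_cover (fun j => (π j).left) hπ τ.left
  have hr : ∀ ⦃V : Scheme.{u}⦄ (v : V ⟶ T'.left), factorSieve (fun j => (π j).left) τ.left v →
      ∃ r : Over.mk (v ≫ T'.hom) ⟶ R, r ≫ t = (Over.homMk v rfl : Over.mk (v ≫ T'.hom) ⟶ T') ≫ a ∧
        r ≫ s = (Over.homMk v rfl : Over.mk (v ≫ T'.hom) ⟶ T') ≫ b := by
    rintro V v ⟨j, x, hx⟩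
    refine hab (Over.homMk v rfl : Over.mk (v ≫ T'.hom) ⟶ T')
      (Over.homMk x (by
        show x ≫ (W j).hom = v ≫ T'.hom
        rw [← Over.w (π j), ← Category.assoc, hx, Category.assoc, Over.w τ]) : Over.mk (v ≫ T'.hom) ⟶ W j)
      (Over.OverMorphism.ext hx)
  choose r hr1 hr2 using hr
  obtain ⟨ρ, hρ⟩ := exists_glue _ hcov (fun V v hv => (r v hv).left) fun V V' g v hv v' hv' e => by
    subst e
    let gg : Over.mk ((g ≫ v) ≫ T'.hom) ⟶ Over.mk (v ≫ T'.hom) := Over.homMk g (Category.assoc _ _ _).symm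
    refine congrArg CommaMorphism.left (h.injective _ (r (g ≫ v) hv') (gg ≫ r v hv) ?_ ?_)
    · refine (hr1 _ hv').trans (Eq.trans ?_ (Category.assoc _ _ _).symm)
      exact Eq.trans (Over.OverMorphism.ext (Category.assoc _ _ _)) (congrArg (gg ≫ ·) (hr1 v hv)).symm
    · refine (hr2 _ hv').trans (Eq.trans ?_ (Category.assoc _ _ _).symm)
      exact Eq.trans (Over.OverMorphism.ext (Category.assoc _ _ _)) (congrArg (gg ≫ ·) (hr2 v hv)).symm
  refine ⟨Over.homMk ρ (hom_ext_of_covering _ hcov _ _ fun V v hv => ?_), ?_, ?_⟩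
  · rw [← Category.assoc, hρ v hv]
    exact Over.w (r v hv)
  · refine Over.OverMorphism.ext (hom_ext_of_covering _ hcov _ _ fun V v hv => ?_)
    show v ≫ ρ ≫ t.left = v ≫ a.left
    rw [← Category.assoc, hρ v hv]
    exact congrArg CommaMorphism.left (hr1 v hv)
  · refine Over.OverMorphism.ext (hom_ext_of_covering _ hcov _ _ fun V v hv => ?_)
    show v ≫ ρ ≫ s.left = v ≫ b.left
    rw [← Category.assoc, hρ v hv]
    exact congrArg CommaMorphism.left (hr2 v hv)

theorem transfer (h : AlgSp.IsEqvRel s t) (hu : Compatible s t π u) {T' : Over S} {i j : κ}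
    (x₀ : T' ⟶ U ⊗ W i) (x₁ : T' ⟶ U ⊗ W j) (e : x₀ ≫ (U ◁ π i) = x₁ ≫ (U ◁ π j))
    (h₀ : Rel s t (x₀ ≫ fst U (W i)) ((x₀ ≫ snd U (W i)) ≫ u i)) :
    Rel s t (x₁ ≫ fst U (W j)) ((x₁ ≫ snd U (W j)) ≫ u j) := by
  have e1 := congrArg (fun z => z ≫ fst U T) e
  have e2 := congrArg (fun z => z ≫ snd U T) e
  simp only [Category.assoc, whiskerLeft_fst, whiskerLeft_snd] at e1 e2
  rw [← e1]
  exact h₀.trans h (hu _ _ (by simpa using e2))

section Exists

variable (h : AlgSp.IsEqvRel s t)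
  (hπ : Presieve.ofArrows (fun j => (W j).left) (fun j => (π j).left) ∈ Scheme.fpqcPrecoverage T.left)
  (hu : Compatible s t π u)

include h hπ hu in
/-- The subscheme of a compatible family of local sections, for a closed graph. -/
theorem exists_good_closed (hc : IsClosedImmersion (lift t s).left) :
    ∃ (Z : Over S) (i : Z ⟶ U ⊗ T), Mono i ∧
      (∀ ⦃T' : Over S⦄ (c : T' ⟶ U ⊗ T), (∃ z : T' ⟶ Z, z ≫ i = c) ↔ Good s t π u c) := by
  have hcl : ∀ j, IsClosedImmersion (qloc s t u j).left := fun j =>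
    MorphismProperty.of_isPullback (P := @IsClosedImmersion)
      ((IsPullback.of_hasPullback (lift t s) (U ◁ u j)).map (Over.forget S)) hc
  have hsub : ∀ {j : κ} {V : Scheme.{u}} (y : V ⟶ (U ⊗ W j).left),
      Subsingleton (Lifts (Over.mk (qloc s t u j).left) y) := fun {j V} y => ⟨fun v w => by
    haveI := hcl j
    exact Subtype.ext ((cancel_mono (qloc s t u j).left).1 (v.2.trans w.2.symm))⟩
  have tr : ∀ {V : Scheme.{u}} {i j : κ} (x₀ : V ⟶ (U ⊗ W i).left) (x₁ : V ⟶ (U ⊗ W j).left),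
      x₀ ≫ bigFam π i = x₁ ≫ bigFam π j → Lifts (Over.mk (qloc s t u i).left) x₀ →
      Nonempty (Lifts (Over.mk (qloc s t u j).left) x₁) := by
    intro V i j x₀ x₁ e v
    let T' : Over S := Over.mk (x₀ ≫ (U ⊗ W i).hom)
    let a₀ : T' ⟶ U ⊗ W i := Over.homMk x₀ rfl
    let a₁ : T' ⟶ U ⊗ W j := Over.homMk x₁ (by
      show x₁ ≫ (U ⊗ W j).hom = x₀ ≫ (U ⊗ W i).hom
      rw [← Over.w (U ◁ π i), ← Over.w (U ◁ π j), ← Category.assoc, ← Category.assoc, e])
    exact (lifts_iff_rel a₁).2 (transfer h hu a₀ a₁ (Over.OverMorphism.ext e) ((lifts_iff_rel a₀).1 ⟨v⟩))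
  let D : SchDDFam (bigFam (U := U) π) :=
    { obj := fun j => Over.mk (qloc s t u j).left
      φ := fun V i j x₀ x₁ e =>
        { toFun := fun v => (tr x₀ x₁ e v).some
          invFun := fun v => (tr x₁ x₀ e.symm v).some
          left_inv := fun _ => (hsub x₀).elim _ _
          right_inv := fun _ => (hsub x₁).elim _ _ }
      φ_natural := fun V V' g i j x₀ x₁ e y₀ y₁ hy₀ hy₁ e' v v' _ => by
        subst hy₁
        exact congrArg Subtype.val ((hsub (g ≫ x₁)).elim _ ⟨g ≫ (tr x₀ x₁ e v).some.1, by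
          rw [Category.assoc, (tr x₀ x₁ e v).some.2]⟩)
      φ_self := fun _ _ x _ => (hsub x).elim _ _
      φ_comp := fun _ _ _ _ _ _ x₂ _ _ _ => (hsub x₂).elim _ _ }
  obtain ⟨U0, c₀, hU0⟩ := rep_of_isEffective
    (fun {V} y => factorSieve_mem_of_cover _ (bigFam_mem hπ) y)
    (effective_of_affine_case @IsAffineHom (prop_sigmaMap' @IsAffineHom)
      (fun X S p _ _ _ _ D (hD : IsAffineHom D.obj.hom) =>
        haveI : IsAffine D.obj.left := isAffine_of_isAffineHom D.obj.hom
        effective_affine p D) _ (bigFam_mem hπ) D fun j => by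
          haveI := hcl j
          exact inferInstanceAs (IsAffineHom (qloc s t u j).left))
  let Z : Over S := Over.mk (U0.hom ≫ (U ⊗ T).hom)
  let i : Z ⟶ U ⊗ T := Over.homMk U0.hom rfl
  have hcs : ∀ {V : Scheme.{u}} {y : V ⟶ (U ⊗ T).left} (c c' : Compat D y), c = c' := fun c c' =>
    Compat.ext fun V' v j x hx => congrArg Subtype.val ((hsub x).elim _ _)
  have hchar : ∀ ⦃T' : Over S⦄ (c : T' ⟶ U ⊗ T), (∃ z : T' ⟶ Z, z ≫ i = c) ↔ Good s t π u c := by
    intro T' c
    constructor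
    · rintro ⟨z, rfl⟩ T'' g j x hx
      let a : T'' ⟶ U ⊗ W j := lift (g ≫ (z ≫ i) ≫ fst U T) x
      have e : a ≫ (U ◁ π j) = g ≫ z ≫ i := by
        refine CartesianMonoidalCategory.hom_ext _ _ ?_ ?_
        · simp [a]
        · simpa [a] using hx
      have := (lifts_iff_rel a).1 ⟨c₀.pt (g ≫ z).left a.left (by
        show a.left ≫ bigFam π j = (g ≫ z).left ≫ i.left
        rw [bigFam, ← Over.comp_left, ← Over.comp_left, e, Category.assoc])⟩
      simpa [a] using this
    · intro hgood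
      have hpt : ∀ ⦃V : Scheme.{u}⦄ (v : V ⟶ T'.left) ⦃j : κ⦄ (y : V ⟶ (U ⊗ W j).left),
          y ≫ bigFam π j = v ≫ c.left → Nonempty (Lifts (D.obj j) y) := by
        intro V v j y hy
        let T'' : Over S := Over.mk (v ≫ T'.hom)
        let g : T'' ⟶ T' := Over.homMk v rfl
        let a : T'' ⟶ U ⊗ W j := Over.homMk y (by
          show y ≫ (U ⊗ W j).hom = v ≫ T'.hom
          rw [← Over.w (U ◁ π j), ← Category.assoc, hy, Category.assoc, Over.w c])
        have e : a ≫ (U ◁ π j) = g ≫ c := Over.OverMorphism.ext hy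
        refine (lifts_iff_rel a).2 ?_
        have e1 := congrArg (fun z => z ≫ fst U T) e
        have e2 := congrArg (fun z => z ≫ snd U T) e
        simp only [Category.assoc, whiskerLeft_fst, whiskerLeft_snd] at e1 e2
        rw [e1]
        exact hgood g (a ≫ snd U (W j)) (by rw [Category.assoc]; exact e2)
      let cc : Compat D c.left :=
        { pt := fun V v j y hy => (hpt v y hy).some
          nat := fun V V' g v j y hy v' y' hg hy' hy'' => by
            subst hy'
            exact congrArg Subtype.val ((hsub (g ≫ y)).elim _ ⟨g ≫ (hpt v y hy).some.1, by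
              rw [Category.assoc, (hpt v y hy).some.2]⟩)
          comp := fun V v j k y y' hy hy' => (hsub y').elim _ _ }
      obtain ⟨p, -, -⟩ := hU0 c.left cc
      refine ⟨Over.homMk p.1 ?_, Over.OverMorphism.ext p.2⟩
      show p.1 ≫ U0.hom ≫ (U ⊗ T).hom = T'.hom
      rw [← Category.assoc, p.2, Over.w c]
  refine ⟨Z, i, ⟨fun {T'} z z' e => ?_⟩, hchar⟩
  obtain ⟨p, -, hp⟩ := hU0 (z ≫ i).left (c₀.res z.left (z ≫ i).left rfl)
  have e1 : (⟨z.left, rfl⟩ : Lifts U0 (z ≫ i).left) = p := hp _ rfl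
  have e2 : (⟨z'.left, (congrArg CommaMorphism.left e).symm⟩ : Lifts U0 (z ≫ i).left) = p := hp _ (hcs _ _)
  exact Over.OverMorphism.ext (congrArg Subtype.val (e1.trans e2.symm))

include h hπ hu in
/-- The subscheme of a compatible family of local sections, for an open graph. -/
theorem exists_good_open (ho : IsOpenImmersion (lift t s).left) :
    ∃ (Z : Over S) (i : Z ⟶ U ⊗ T), IsOpenImmersion i.left ∧
      (∀ ⦃T' : Over S⦄ (c : T' ⟶ U ⊗ T), (∃ z : T' ⟶ Z, z ≫ i = c) ↔ Good s t π u c) := by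
  have hop : ∀ j, IsOpenImmersion (qloc s t u j).left := fun j =>
    MorphismProperty.of_isPullback (P := @IsOpenImmersion)
      ((IsPullback.of_hasPullback (lift t s) (U ◁ u j)).map (Over.forget S)) ho
  have hrange : ∀ {T' : Over S} {j : κ} (x : T' ⟶ U ⊗ W j),
      Rel s t (x ≫ fst U (W j)) ((x ≫ snd U (W j)) ≫ u j) ↔ Set.range x.left ⊆ Set.range (qloc s t u j).left := by
    intro T' j x
    rw [← lifts_iff_rel]
    haveI := hop j
    constructor
    · rintro ⟨v⟩ _ ⟨p, rfl⟩
      exact ⟨v.1 p, congrArg (fun m : T'.left ⟶ _ => m p) v.2⟩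
    · intro hx
      exact ⟨⟨IsOpenImmersion.lift (qloc s t u j).left x.left hx, IsOpenImmersion.lift_fac _ _ _⟩⟩
  let O : Set (U ⊗ T).left := ⋃ j, bigFam π j '' Set.range (qloc s t u j).left
  have hpre : ∀ j, bigFam π j ⁻¹' O = Set.range (qloc s t u j).left := by
    intro j
    refine Set.Subset.antisymm (fun y hy => ?_) fun y hy => Set.mem_iUnion.2 ⟨j, y, hy, rfl⟩
    obtain ⟨i, y', hy', e⟩ := Set.mem_iUnion.1 hy
    obtain ⟨z, hz1, hz2⟩ := Scheme.Pullback.exists_preimage_pullback (f := bigFam (U := U) π i)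
      (g := bigFam (U := U) π j) y' y e
    let P := pullback (bigFam (U := U) π i) (bigFam π j)
    let v := P.fromSpecResidueField z
    let T' : Over S := Over.mk ((v ≫ pullback.fst _ _) ≫ (U ⊗ W i).hom)
    let a₀ : T' ⟶ U ⊗ W i := Over.homMk (v ≫ pullback.fst _ _) rfl
    have e' : (v ≫ pullback.fst (bigFam π i) (bigFam π j)) ≫ bigFam π i =
        (v ≫ pullback.snd (bigFam π i) (bigFam π j)) ≫ bigFam π j := by
      rw [Category.assoc, Category.assoc, pullback.condition]
    let a₁ : T' ⟶ U ⊗ W j := Over.homMk (v ≫ pullback.snd _ _) (by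
      show (v ≫ pullback.snd _ _) ≫ (U ⊗ W j).hom = (v ≫ pullback.fst _ _) ≫ (U ⊗ W i).hom
      rw [← Over.w (U ◁ π i), ← Over.w (U ◁ π j), ← Category.assoc, ← Category.assoc, ← e', Category.assoc])
    have h₀ : Set.range a₀.left ⊆ Set.range (qloc s t u i).left := by
      rintro _ ⟨p, rfl⟩
      show pullback.fst (bigFam π i) (bigFam π j) (v p) ∈ _
      rw [show v p = z from Scheme.fromSpecResidueField_apply z p, hz1]
      exact hy'
    have h₁ := (hrange a₁).1 (transfer h hu a₀ a₁ (Over.OverMorphism.ext e') ((hrange a₀).2 h₀))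
    have := h₁ ⟨IsLocalRing.closedPoint _, rfl⟩
    change pullback.snd (bigFam π i) (bigFam π j) (v _) ∈ _ at this
    rwa [show v (IsLocalRing.closedPoint _) = z from Scheme.fromSpecResidueField_apply z _, hz2] at this
  let OO : (U ⊗ T).left.Opens := ⟨O, isOpen_of_family _ (bigFam_mem hπ) O fun j => by
    rw [hpre j]
    haveI := hop j
    exact (qloc s t u j).left.isOpenEmbedding.isOpen_range⟩
  let Z : Over S := Over.mk (OO.ι ≫ (U ⊗ T).hom)
  let i : Z ⟶ U ⊗ T := Over.homMk OO.ι rfl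
  haveI hio : IsOpenImmersion i.left := inferInstanceAs (IsOpenImmersion OO.ι)
  refine ⟨Z, i, hio, fun T' c => ?_⟩
  have hfac : (∃ z : T' ⟶ Z, z ≫ i = c) ↔ Set.range c.left ⊆ O := by
    constructor
    · rintro ⟨z, rfl⟩ _ ⟨p, rfl⟩
      show OO.ι (z.left p) ∈ O
      exact (z.left p).2
    · intro hcO
      refine ⟨Over.homMk (IsOpenImmersion.lift OO.ι c.left (hcO.trans OO.range_ι.symm.subset)) ?_,
        Over.OverMorphism.ext (IsOpenImmersion.lift_fac _ _ _)⟩
      show IsOpenImmersion.lift _ _ _ ≫ OO.ι ≫ (U ⊗ T).hom = T'.hom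
      rw [IsOpenImmersion.lift_fac_assoc, Over.w c]
  rw [hfac]
  constructor
  · intro hcO T'' g j x hx
    let a : T'' ⟶ U ⊗ W j := lift (g ≫ c ≫ fst U T) x
    have e : a ≫ (U ◁ π j) = g ≫ c := by
      refine CartesianMonoidalCategory.hom_ext _ _ ?_ ?_
      · simp [a]
      · simpa [a] using hx
    have := (hrange a).2 (by
      rw [← hpre j]
      rintro _ ⟨p, rfl⟩
      show bigFam π j (a.left p) ∈ O
      rw [← Scheme.Hom.comp_apply, ← Over.comp_left, e]
      exact hcO ⟨g.left p, rfl⟩)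
    simpa [a] using this
  · rintro hgood _ ⟨p, rfl⟩
    obtain ⟨j, y, hy⟩ := ((Scheme.ofArrows_mem_precoverage_iff _).1 (bigFam_mem (U := U) hπ).2).1 (c.left p)
    obtain ⟨z, hz1, hz2⟩ := Scheme.Pullback.exists_preimage_pullback (f := c.left) (g := bigFam (U := U) π j) p y
      hy.symm
    let T'' : Over S := Over.mk (pullback.fst c.left (bigFam π j) ≫ T'.hom)
    let g : T'' ⟶ T' := Over.homMk (pullback.fst c.left (bigFam π j)) rfl
    let a : T'' ⟶ U ⊗ W j := Over.homMk (pullback.snd c.left (bigFam π j)) (by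
      show pullback.snd c.left (bigFam π j) ≫ (U ⊗ W j).hom = pullback.fst c.left (bigFam π j) ≫ T'.hom
      rw [← Over.w (U ◁ π j), ← Category.assoc, ← pullback.condition, Category.assoc, Over.w c])
    have e : g ≫ c = a ≫ (U ◁ π j) := Over.OverMorphism.ext pullback.condition
    have e1 := congrArg (fun z => z ≫ fst U T) e
    have e2 := congrArg (fun z => z ≫ snd U T) e
    simp only [Category.assoc, whiskerLeft_fst, whiskerLeft_snd] at e1 e2
    have hr := hgood g (a ≫ snd U (W j)) (by rw [Category.assoc]; exact e2.symm)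
    rw [e1] at hr
    have hy' := (hrange a).1 hr ⟨z, rfl⟩
    change pullback.snd c.left (bigFam π j) z ∈ _ at hy'
    rw [hz2] at hy'
    exact Set.mem_iUnion.2 ⟨j, y, hy', hy⟩

variable {Z : Over S} {i : Z ⟶ U ⊗ T}
  (hchar : ∀ ⦃T' : Over S⦄ (c : T' ⟶ U ⊗ T), (∃ z : T' ⟶ Z, z ≫ i = c) ↔ Good s t π u c)

include h hu hchar in
/-- The local subschemes are the base changes of the subscheme. -/
theorem isPullback_loc [Mono i] (j : κ) :
    ∃ j₀ : Zloc s t u j ⟶ Z, IsPullback j₀ (qloc s t u j) i (U ◁ π j) := by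
  have hg : Good s t π u (qloc s t u j ≫ (U ◁ π j)) := fun T'' g k x hx => by
    have h1 := (factor_iff_rel (g ≫ qloc s t u j)).1 ⟨g, rfl⟩
    have h2 := hu ((g ≫ qloc s t u j) ≫ snd U (W j)) x (by rw [hx]; simp)
    have := h1.trans h h2
    simpa using this
  obtain ⟨j₀, hj₀⟩ := (hchar _).2 hg
  haveI := mono_qloc (u := u) h j
  refine ⟨j₀, ThirdIso.isPullback_of_points hj₀ (fun T' c c' _ e2 => (cancel_mono _).1 e2) fun T' a b hab => ?_⟩
  have hgood := (hchar (a ≫ i)).1 ⟨a, rfl⟩
  have e1 := congrArg (fun z => z ≫ fst U T) hab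
  have e2 := congrArg (fun z => z ≫ snd U T) hab
  simp only [Category.assoc, whiskerLeft_fst, whiskerLeft_snd] at e1 e2
  have hr := hgood (𝟙 T') (b ≫ snd U (W j)) (by simpa using e2.symm)
  obtain ⟨v, hv⟩ := (factor_iff_rel b).2 (by simpa [e1] using hr)
  exact ⟨T', 𝟙 T', v, ⟨inferInstanceAs (Surjective (𝟙 T'.left)), inferInstanceAs (Flat (𝟙 T'.left)),
    inferInstanceAs (LocallyOfFinitePresentation (𝟙 T'.left))⟩,
    by rw [Category.id_comp, ← cancel_mono i, Category.assoc, hj₀, ← Category.assoc, hv, hab],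
    by rw [Category.id_comp, hv]⟩

include h hu hchar hπ in
/-- The embedding inherits properties of the graph. -/
theorem property_incl [Mono i] (P : MorphismProperty Scheme.{u}) [IsZariskiLocalAtTarget P]
    [P.IsStableUnderBaseChange] [P.DescendsAlong (@Surjective ⊓ @Flat ⊓ @QuasiCompact)]
    (hP : P (lift t s).left) : P i.left := by
  refine property_of_family _ (bigFam_mem hπ) P i.left fun j => ?_
  obtain ⟨j₀, hj⟩ := isPullback_loc h hu hchar j
  rw [← MorphismProperty.cancel_left_of_respectsIso P (hj.map (Over.forget S)).isoPullback.hom]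
  erw [(hj.map (Over.forget S)).isoPullback_hom_snd]
  exact P.of_isPullback ((IsPullback.of_hasPullback (lift t s) (U ◁ u j)).map (Over.forget S)) hP

include h hu hchar hπ in
/-- The projection inherits properties of the relation. -/
theorem property_proj [Mono i] (P : MorphismProperty Scheme.{u}) [IsZariskiLocalAtTarget P]
    [P.IsStableUnderBaseChange] [P.DescendsAlong (@Surjective ⊓ @Flat ⊓ @QuasiCompact)]
    (hP : P s.left) : P (i ≫ snd U T).left := by
  refine property_of_family _ hπ P (i ≫ snd U T).left fun j => ?_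
  obtain ⟨j₀, hj⟩ := isPullback_loc h hu hchar j
  have hsq : IsPullback j₀.left ((qloc s t u j).left ≫ (snd U (W j)).left) (i ≫ snd U T).left (π j).left :=
    (hj.map (Over.forget S)).paste_vert (GrpSchLib.isPullback_whiskerLeft (π j))
  rw [← MorphismProperty.cancel_left_of_respectsIso P hsq.isoPullback.hom]
  erw [hsq.isoPullback_hom_snd]
  have hs := ((IsPullback.of_hasPullback (lift t s) (U ◁ u j)).map (Over.forget S)).paste_vert
    (GrpSchLib.isPullback_whiskerLeft (u j))
  have e : (Over.forget S).map (lift t s) ≫ (snd U U).left = s.left :=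
    (Over.comp_left _ _ _ (lift t s) (snd U U)).symm.trans (congrArg CommaMorphism.left (lift_snd t s))
  rw [e] at hs
  exact P.of_isPullback hs hP

include h hu hπ in
/-- Two good points over the same point of the base are related. -/
theorem rel_of_good {T' : Over S} {c c' : T' ⟶ U ⊗ T} (hc : Good s t π u c) (hc' : Good s t π u c')
    (e : c ≫ snd U T = c' ≫ snd U T) : Rel s t (c ≫ fst U T) (c' ≫ fst U T) :=
  rel_of_local h hπ (c ≫ snd U T) fun T'' g j x hx =>
    (hc g x hx).trans h ((hc' g x (by rw [hx, e])).symm h)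

end Exists

/-- A mono into `U ⊗ T`, covering `T`, with related fibres and stable under the relation, is determined. -/
theorem good_point_factor (h : AlgSp.IsEqvRel s t) {Z' : Over S} {i' : Z' ⟶ U ⊗ T} [Mono i']
    (hstab : ∀ (T' : Over S) (r : T' ⟶ R ⊗ T),
      (∃ z : T' ⟶ Z', z ≫ i' = r ≫ (s ▷ T)) ↔ (∃ z : T' ⟶ Z', z ≫ i' = r ≫ (t ▷ T)))
    [Flat (i' ≫ snd U T).left] [Surjective (i' ≫ snd U T).left] [QuasiCompact (i' ≫ snd U T).left]
    {T' : Over S} (c : T' ⟶ U ⊗ T)
    (hrel : ∀ ⦃T'' : Over S⦄ (g : T'' ⟶ T') (z' : T'' ⟶ Z'), z' ≫ i' ≫ snd U T = g ≫ c ≫ snd U T →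
      Rel s t (g ≫ c ≫ fst U T) (z' ≫ i' ≫ fst U T)) :
    ∃ z : T' ⟶ Z', z ≫ i' = c := by
  let τ := c ≫ snd U T
  let T'' := pullback τ (i' ≫ snd U T)
  let g : T'' ⟶ T' := pullback.fst τ (i' ≫ snd U T)
  let z' : T'' ⟶ Z' := pullback.snd τ (i' ≫ snd U T)
  have hg : z' ≫ i' ≫ snd U T = g ≫ τ := pullback.condition.symm
  obtain ⟨r, hr1, hr2⟩ := hrel g z' hg
  obtain ⟨w, hw⟩ := (hstab T'' (lift r (g ≫ τ))).1 ⟨z', by
    refine CartesianMonoidalCategory.hom_ext _ _ ?_ ?_
    · simpa using hr2.symm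
    · simpa using hg⟩
  have hw' : w ≫ i' = g ≫ c := by
    rw [hw]
    refine CartesianMonoidalCategory.hom_ext _ _ ?_ ?_
    · simpa using hr1
    · simp [τ]
  -- descend along the faithfully flat quasi-compact morphism `g`
  have hpb := (IsPullback.of_hasPullback τ (i' ≫ snd U T)).map (Over.forget S)
  have hQ : (@Surjective ⊓ @Flat ⊓ @QuasiCompact : MorphismProperty Scheme.{u}) g.left :=
    ⟨⟨MorphismProperty.of_isPullback (P := @Surjective) hpb.flip ‹_›,
      MorphismProperty.of_isPullback (P := @Flat) hpb.flip ‹_›⟩,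
      MorphismProperty.of_isPullback (P := @QuasiCompact) hpb.flip ‹_›⟩
  haveI : Mono i'.left := inferInstanceAs (Mono ((Over.forget S).map i'))
  let q := pullback.fst c.left i'.left
  haveI : IsIso (pullback.fst g.left q) := by
    let σ : T''.left ⟶ pullback g.left q := pullback.lift (𝟙 _) (pullback.lift g.left w.left
      (by rw [← Over.comp_left, ← Over.comp_left, hw'])) (by rw [Category.id_comp, pullback.lift_fst])
    exact ⟨σ, (cancel_mono (pullback.fst g.left q)).1 (by
      rw [Category.assoc, Category.id_comp, pullback.lift_fst, Category.comp_id]), pullback.lift_fst _ _ _⟩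
  haveI : IsIso q := MorphismProperty.of_pullback_fst_of_descendsAlong (P := MorphismProperty.isomorphisms Scheme.{u})
    (Q := @Surjective ⊓ @Flat ⊓ @QuasiCompact) hQ (by assumption)
  refine ⟨Over.homMk (inv q ≫ pullback.snd c.left i'.left) ?_, Over.OverMorphism.ext ?_⟩
  · show (inv q ≫ pullback.snd _ _) ≫ Z'.hom = T'.hom
    rw [← Over.w i', Category.assoc, ← pullback.condition_assoc, Over.w c]
    simp [q]
  · show (inv q ≫ pullback.snd _ _) ≫ i'.left = c.left
    rw [Category.assoc, ← pullback.condition]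
    simp [q]

end Groth.Agent.QuotSec
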