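import Mathlib.AlgebraicGeometry.Sites.Fpqc
import Mathlib.AlgebraicGeometry.Morphisms.FlatDescent
import Mathlib.AlgebraicGeometry.Morphisms.LocalFlatDescent

/-!
# Descent of properties and of open sets along fpqc covering families
-/

universe u

set_option autoImplicit false
set_option backward.isDefEq.respectTransparency false
set_option backward.isDefEq.respectTransparency.types false
set_option linter.style.haveILetI false

open CategoryTheory CategoryTheory.Limits AlgebraicGeometry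

namespace Groth.Agent.QuotSec

variable {Y : Scheme.{u}} {κ : Type u} {X : κ → Scheme.{u}} (f : ∀ i, X i ⟶ Y)
  (hf : Presieve.ofArrows X f ∈ Scheme.fpqcPrecoverage Y)

include hf in
/-- Over an affine open an fpqc covering family is refined by a single faithfully flat quasi-compact morphism. -/
theorem exists_refinement (W : Y.Opens) (hW : IsAffineOpen W) :
    ∃ (σ : Type u) (V : σ → Scheme.{u}) (r : σ → κ) (g : ∀ k, V k ⟶ X (r k)) (v : ∀ k, V k ⟶ W.toScheme),
      (∀ k, v k ≫ W.ι = g k ≫ f (r k)) ∧ Surjective (Sigma.desc v) ∧ Flat (Sigma.desc v) ∧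
        QuasiCompact (Sigma.desc v) := by
  haveI hqc : QuasiCompactCover (⟨κ, X, f⟩ : PreZeroHypercover.{u} Y) :=
    (Scheme.presieve₀_mem_qcPrecoverage_iff (E := ⟨κ, X, f⟩)).1 hf.1
  have hflat : ∀ i, Flat (f i) := ((Scheme.ofArrows_mem_precoverage_iff _).1 hf.2).2
  obtain ⟨m, r, V, hVa, hVeq⟩ :=
    QuasiCompactCover.exists_isAffineOpen_of_isCompact (⟨κ, X, f⟩ : PreZeroHypercover.{u} Y) hW.isCompact
  change Fin m → κ at r
  let g : ∀ k : ULift.{u} (Fin m), (V k.down).toScheme ⟶ X (r k.down) := fun k => (V k.down).ι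
  have hsub : ∀ k : ULift.{u} (Fin m), Set.range (g k ≫ f (r k.down)) ⊆ Set.range W.ι := fun k => by
    rintro _ ⟨y, rfl⟩
    rw [W.range_ι, ← hVeq]
    exact Set.mem_iUnion.2 ⟨k.down, (g k) y, y.2, rfl⟩
  let v : ∀ k : ULift.{u} (Fin m), (V k.down).toScheme ⟶ W.toScheme := fun k =>
    IsOpenImmersion.lift W.ι (g k ≫ f (r k.down)) (hsub k)
  have hv : ∀ k, v k ≫ W.ι = g k ≫ f (r k.down) := fun k => IsOpenImmersion.lift_fac _ _ _
  haveI : IsAffine W.toScheme := hW
  haveI : ∀ k : ULift.{u} (Fin m), IsAffine (V k.down).toScheme := fun k => hVa k.down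
  let p := Sigma.desc v
  have hp : Flat p := IsZariskiLocalAtSource.sigmaDesc fun k => by
    haveI := hflat (r k.down)
    refine MorphismProperty.of_postcomp (W' := @IsOpenImmersion) @Flat (v k) W.ι inferInstance ?_
    rw [hv k]; infer_instance
  haveI hps : Surjective p := ⟨fun y => by
    obtain ⟨k, z, hz, hzy⟩ : ∃ k, ∃ z ∈ (V k : Set (X (r k))), f (r k) z = W.ι y := by
      have := y.2
      rw [← SetLike.mem_coe, ← hVeq, Set.mem_iUnion] at this
      obtain ⟨k, z, hz, hzy⟩ := this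
      exact ⟨k, z, hz, hzy⟩
    refine ⟨Sigma.ι (fun k : ULift.{u} (Fin m) => (V k.down).toScheme) ⟨k⟩ ⟨z, hz⟩,
      W.ι.isOpenEmbedding.injective ?_⟩
    rw [← hzy, ← Scheme.Hom.comp_apply, ← Scheme.Hom.comp_apply,
      show Sigma.ι _ _ ≫ p ≫ W.ι = g ⟨k⟩ ≫ f (r k) from (Sigma.ι_desc_assoc v _ W.ι).trans (hv ⟨k⟩)]
    rfl⟩
  exact ⟨_, _, fun k => r k.down, g, v, hv, hps, hp, inferInstance⟩

include hf in
/-- A property descending along fpqc morphisms can be checked on an fpqc covering family. -/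
theorem property_of_family (P : MorphismProperty Scheme.{u}) [IsZariskiLocalAtTarget P] [P.IsStableUnderBaseChange]
    [P.DescendsAlong (@Surjective ⊓ @Flat ⊓ @QuasiCompact)] {Z : Scheme.{u}} (h : Z ⟶ Y)
    (hh : ∀ i, P (pullback.snd h (f i))) : P h := by
  refine (IsZariskiLocalAtTarget.iff_of_openCover (P := P)
    (Y.openCoverOfIsOpenCover _ (iSup_affineOpens_eq_top Y))).2 fun W => ?_
  obtain ⟨σ, V, r, g, v, hv, h1, h2, h3⟩ := exists_refinement f hf W.1 W.2
  refine MorphismProperty.of_pullback_snd_of_descendsAlong (P := P)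
    (Q := @Surjective ⊓ @Flat ⊓ @QuasiCompact) (f := pullback.snd h W.1.ι) (g := Sigma.desc v) ⟨⟨h1, h2⟩, h3⟩ ?_
  refine (IsZariskiLocalAtTarget.iff_of_openCover (P := P) (sigmaOpenCover V)).2 fun k => ?_
  let q := pullback.snd (pullback.snd h W.1.ι) (Sigma.desc v)
  have hbig : IsPullback
      (pullback.fst q (Sigma.ι V k) ≫ pullback.fst (pullback.snd h W.1.ι) (Sigma.desc v) ≫ pullback.fst h W.1.ι)
      (pullback.snd q (Sigma.ι V k)) h (Sigma.ι V k ≫ Sigma.desc v ≫ W.1.ι) :=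
    (IsPullback.of_hasPullback q (Sigma.ι V k)).paste_horiz
      ((IsPullback.of_hasPullback (pullback.snd h W.1.ι) (Sigma.desc v)).paste_horiz
        (IsPullback.of_hasPullback h W.1.ι))
  have e : Sigma.ι V k ≫ Sigma.desc v ≫ W.1.ι = g k ≫ f (r k) := by rw [Sigma.ι_desc_assoc, hv]
  rw [e] at hbig
  exact P.of_isPullback (hbig.of_right' (IsPullback.of_hasPullback h (f (r k)))) (hh (r k))

include hf in
/-- A subset is open if its preimages in the members of an fpqc covering family are open. -/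
theorem isOpen_of_family (O : Set Y) (hO : ∀ i, IsOpen ((f i) ⁻¹' O)) : IsOpen O := by
  have h : ∀ W : Y.affineOpens, IsOpen (W.1.ι ⁻¹' O) := fun W => by
    obtain ⟨σ, V, r, g, v, hv, h1, h2, h3⟩ := exists_refinement f hf W.1 W.2
    haveI := h1; haveI := h2; haveI := h3
    refine (Flat.isQuotientMap_of_surjective (Sigma.desc v)).isOpen_preimage.mp ?_
    refine isOpen_iff_forall_mem_open.2 fun z hz => ?_
    obtain ⟨k, y, rfl⟩ := (sigmaOpenCover V).exists_eq z
    have key : Sigma.ι V k ≫ Sigma.desc v ≫ W.1.ι = g k ≫ f (r k) := by rw [Sigma.ι_desc_assoc, hv]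
    refine ⟨Sigma.ι V k '' ((g k ≫ f (r k)) ⁻¹' O), ?_, (Sigma.ι V k).isOpenEmbedding.isOpenMap _ ?_, y, ?_, rfl⟩
    · rintro _ ⟨x, hx, rfl⟩
      show (Sigma.ι V k ≫ Sigma.desc v ≫ W.1.ι) x ∈ O
      rw [key]
      exact hx
    · exact (hO (r k)).preimage (g k).continuous
    · show (g k ≫ f (r k)) y ∈ O
      rw [← key]
      exact hz
  refine isOpen_iff_forall_mem_open.2 fun y hy => ?_
  obtain ⟨W, hW, hyW, -⟩ := TopologicalSpace.Opens.isBasis_iff_nbhd.1 Y.isBasis_affineOpens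
    (show y ∈ (⊤ : Y.Opens) from trivial)
  exact ⟨Scheme.Opens.ι W '' (Scheme.Opens.ι W ⁻¹' O), Set.image_preimage_subset _ _,
    (Scheme.Opens.ι W).isOpenEmbedding.isOpenMap _ (h ⟨W, hW⟩), ⟨y, hyW⟩, hy, rfl⟩

end Groth.Agent.QuotSec
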