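import Groth.Agent.QuotSec.Statement

/-!
# The fppf quotient by an equivalence relation with closed graph is an fpqc sheaf
-/

universe u

set_option autoImplicit false
set_option backward.isDefEq.respectTransparency false
set_option backward.isDefEq.respectTransparency.types false
set_option linter.style.haveILetI false
set_option maxHeartbeats 1000000

open CategoryTheory CategoryTheory.Limits MonoidalCategory CartesianMonoidalCategory AlgebraicGeometry Opposite

namespace Groth.Agent.QuotSec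

variable {S : Scheme.{u}} {R U T : Over S} (s t : R ⟶ U)

local notation "Kp" => Scheme.fppfPrecoverage
/-- Restriction of sections of the fppf quotient. -/
noncomputable abbrev qmap {T' T : Over S} (g : T' ⟶ T) (y : (QuotSh.quot Kp s t).obj.obj (op T)) :
    (QuotSh.quot Kp s t).obj.obj (op T') := (QuotSh.quot Kp s t).obj.map g.op y

/-- The class of a point in the fppf quotient. -/
noncomputable def cls {T : Over S} (a : T ⟶ U) : (QuotSh.quot Kp s t).obj.obj (op T) := val Kp (pr Kp s t a)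

theorem map_cls {T' T : Over S} (g : T' ⟶ T) (a : T ⟶ U) : qmap s t g (cls s t a) = cls s t (g ≫ a) := by
  show (QuotSh.quot Kp s t).obj.map g.op (cls s t a) = _
  rw [cls, cls, ← val_repMap, pr_comp]

theorem cls_eq_iff (h : AlgSp.IsEqvRel s t) (a b : T ⟶ U) : cls s t a = cls s t b ↔ Rel s t a b :=
  ⟨fun e => (pr_eq_iff Kp h a b).1 (val_injective Kp e), fun e => congrArg (val Kp) ((pr_eq_iff Kp h a b).2 e)⟩

theorem map_map {T₁ T₂ T₃ : Over S} (g : T₁ ⟶ T₂) (k : T₂ ⟶ T₃) (y : (QuotSh.quot Kp s t).obj.obj (op T₃)) :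
    qmap s t g (qmap s t k y) = qmap s t (g ≫ k) y := by
  show _ = (QuotSh.quot Kp s t).obj.map (g ≫ k).op y
  rw [op_comp, Functor.map_comp]
  rfl

theorem exists_cls_sieve (y : (QuotSh.quot Kp s t).obj.obj (op T)) :
    ∃ R' ∈ QuotSh.J Kp S T, ∀ ⦃T' : Over S⦄ (k : T' ⟶ T), R' k → ∃ a : T' ⟶ U, qmap s t k y = cls s t a := by
  obtain ⟨σ, rfl⟩ := exists_val Kp y
  obtain ⟨R', hR', hl⟩ := exists_lifts Kp σ
  refine ⟨R', hR', fun T' k hk => ?_⟩
  obtain ⟨a, ha⟩ := hl k hk
  exact ⟨a, by show (QuotSh.quot Kp s t).obj.map k.op _ = _; rw [← val_repMap, ha]; rfl⟩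

theorem exists_small_family {R' : Sieve T} (hR' : R' ∈ QuotSh.J Scheme.fpqcPrecoverage S T) :
    ∃ (κ : Type u) (W : κ → Over S) (π : ∀ j, W j ⟶ T),
      Presieve.ofArrows (fun j => (W j).left) (fun j => (π j).left) ∈ Scheme.fpqcPrecoverage T.left ∧
      ∀ j, R' (π j) := by
  rw [GrothendieckTopology.mem_over_iff] at hR'
  obtain ⟨R₀, hR₀, hle⟩ := Precoverage.mem_toGrothendieck_iff_of_isStableUnderComposition.mp hR'
  obtain ⟨κ, X, f, hf, hfR⟩ := TorsTwist.exists_family hR₀
  exact ⟨κ, fun j => Over.mk (f j ≫ T.hom), fun j => Over.homMk (f j), hf,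
    fun j => (Sieve.overEquiv_iff _ _).1 (hle _ _ (hfR j))⟩

theorem exists_cls_family (y : (QuotSh.quot Kp s t).obj.obj (op T)) :
    ∃ (κ : Type u) (W : κ → Over S) (π : ∀ j, W j ⟶ T) (a : ∀ j, W j ⟶ U),
      Presieve.ofArrows (fun j => (W j).left) (fun j => (π j).left) ∈ Scheme.fpqcPrecoverage T.left ∧
      ∀ j, qmap s t (π j) y = cls s t (a j) := by
  obtain ⟨R', hR', hl⟩ := exists_cls_sieve s t y
  have hR'' : R' ∈ QuotSh.J Scheme.fpqcPrecoverage S T := by
    rw [GrothendieckTopology.mem_over_iff] at hR' ⊢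
    exact Scheme.fppfTopology_le_fpqcTopology _ hR'
  obtain ⟨κ, W, π, hπ, hπR⟩ := exists_small_family hR''
  choose a ha using fun j => hl _ (hπR j)
  exact ⟨κ, W, π, a, hπ, ha⟩

/-- Sections of the fppf quotient are determined on fpqc coverings. -/
theorem quot_ext (h : AlgSp.IsEqvRel s t) {κ : Type u} {W : κ → Over S} {π : ∀ j, W j ⟶ T}
    (hπ : Presieve.ofArrows (fun j => (W j).left) (fun j => (π j).left) ∈ Scheme.fpqcPrecoverage T.left)
    {T' : Over S} (τ : T' ⟶ T) {y y' : (QuotSh.quot Kp s t).obj.obj (op T')}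
    (he : ∀ ⦃T'' : Over S⦄ (g : T'' ⟶ T') ⦃j : κ⦄ (x : T'' ⟶ W j), x ≫ π j = g ≫ τ → qmap s t g y = qmap s t g y') :
    y = y' := by
  obtain ⟨R₁, h₁, hl₁⟩ := exists_cls_sieve s t y
  obtain ⟨R₂, h₂, hl₂⟩ := exists_cls_sieve s t y'
  refine ((isSheaf_val Kp _) (R₁ ⊓ R₂) ((QuotSh.J Kp S).intersection_covering h₁ h₂)).isSeparatedFor.ext
    fun T'' k hk => ?_
  obtain ⟨a, ha⟩ := hl₁ k hk.1
  obtain ⟨b, hb⟩ := hl₂ k hk.2
  refine ha.trans (Eq.trans ?_ hb.symm)
  rw [cls_eq_iff s t h]
  refine rel_of_local h hπ (k ≫ τ) fun T₃ g j x hx => (cls_eq_iff s t h _ _).1 ?_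
  rw [← map_cls, ← map_cls, ← ha, ← hb, map_map, map_map]
  exact he (g ≫ k) x (by rw [hx, Category.assoc])

theorem singleton_mem {Z T : Over S} (p : Z ⟶ T) [Flat p.left] [Surjective p.left] [LocallyOfFinitePresentation p.left] :
    Sieve.generate (Presieve.singleton p) ∈ QuotSh.J Kp S T := by
  refine (QuotSh.J Kp S).superset_covering (S := (Sieve.overEquiv T).symm (Sieve.generate (Presieve.singleton p.left))) ?_ ?_
  · intro T' k hk
    obtain ⟨V, a, b, ⟨⟩, hab⟩ := (Sieve.overEquiv_symm_iff _ _).1 hk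
    exact ⟨Z, Over.homMk a (by rw [← Over.w p, ← Category.assoc, hab, Over.w k]), p, Presieve.singleton_self p,
      Over.OverMorphism.ext hab⟩
  · rw [GrothendieckTopology.mem_over_iff]
    show Sieve.overEquiv T ((Sieve.overEquiv T).symm _) ∈ _
    rw [OrderIso.apply_symm_apply]
    exact Precoverage.generate_mem_toGrothendieck p.left.singleton_mem_fppfPrecoverage

variable {s t} in
/-- A compatible family of local lifts glues to a section of the fppf quotient. -/
theorem exists_glue_cls (h : AlgSp.IsEqvRel s t) [Flat s.left] [Surjective s.left] [LocallyOfFinitePresentation s.left]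
    (hc : IsClosedImmersion (lift t s).left) {κ : Type u} {W : κ → Over S} {π : ∀ j, W j ⟶ T} {u : ∀ j, W j ⟶ U}
    (hπ : Presieve.ofArrows (fun j => (W j).left) (fun j => (π j).left) ∈ Scheme.fpqcPrecoverage T.left)
    (hu : Compatible s t π u) :
    ∃ y : (QuotSh.quot Kp s t).obj.obj (op T), ∀ j, qmap s t (π j) y = cls s t (u j) := by
  obtain ⟨Z, i, hmono, hchar⟩ := exists_good_closed h hπ hu hc
  haveI := hmono
  haveI hF : Flat (i ≫ snd U T).left := property_proj h hπ hu hchar @Flat inferInstance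
  haveI hS : Surjective (i ≫ snd U T).left := property_proj h hπ hu hchar @Surjective inferInstance
  haveI hL : LocallyOfFinitePresentation (i ≫ snd U T).left :=
    property_proj h hπ hu hchar @LocallyOfFinitePresentation inferInstance
  have hsf := (Presieve.isSheafFor_iff_generate _).2 ((isSheaf_val Kp (QuotSh.quot Kp s t)) _
    (singleton_mem (i ≫ snd U T)))
  obtain ⟨y, hy, -⟩ := Presieve.isSheafFor_singleton.1 hsf (cls s t (i ≫ fst U T)) fun {V} p₁ p₂ e => by
    show qmap s t p₁ _ = qmap s t p₂ _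
    rw [map_cls, map_cls, cls_eq_iff s t h]
    simpa using rel_of_good h hπ hu ((hchar (p₁ ≫ i)).1 ⟨p₁, rfl⟩) ((hchar (p₂ ≫ i)).1 ⟨p₂, rfl⟩)
      (by simpa using e)
  have hy' : qmap s t (i ≫ snd U T) y = _ := hy
  refine ⟨y, fun j => ?_⟩
  obtain ⟨z, hz⟩ := (hchar (lift (u j) (π j))).2 fun T'' g k x hx => by
    simpa using hu g x (by simpa using hx.symm)
  rw [show π j = z ≫ i ≫ snd U T by rw [← Category.assoc, hz, lift_snd], ← map_map, hy', map_cls,
    show z ≫ i ≫ fst U T = u j by rw [← Category.assoc, hz, lift_fst]]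

end Groth.Agent.QuotSec
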