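import Groth.Agent.QuotSec.Core
import Groth.Agent.AlgStLib.QuotShEff
import Groth.Agent.TorsTwist.Torsor
import Mathlib.CategoryTheory.Sites.EpiMono

/-!
# Sections of quotient sheaves and their local lifts
-/

universe u

set_option autoImplicit false
set_option backward.isDefEq.respectTransparency false
set_option backward.isDefEq.respectTransparency.types false
set_option linter.style.haveILetI false
set_option maxHeartbeats 1000000

open CategoryTheory CategoryTheory.Limits AlgebraicGeometry Opposite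

namespace Groth.Agent.QuotSec

variable {S : Scheme.{u}} (K : Precoverage Scheme.{u}) [(QuotSh.J K S).Subcanonical] {R U T : Over S} {s t : R ⟶ U}

/-- A morphism as an element of the lifted Yoneda sheaf. -/
noncomputable abbrev elem {X T : Over S} (g : X ⟶ T) :
    ((QuotSh.J K S).uliftYoneda.{u + 1}.obj T).obj.obj (op X) := ULift.up.{u + 1} g

/-- The universal element of a representable sheaf. -/
noncomputable def univ (T : Over S) : (QuotSh.rep K T).obj.obj (op T) :=
  (QuotSh.repIsoUliftYoneda K T).inv.hom.app (op T) (elem K (𝟙 T))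

/-- The section of a morphism out of a representable sheaf. -/
noncomputable def val {F : QuotSh.Sh K S} (σ : QuotSh.rep K T ⟶ F) : F.obj.obj (op T) :=
  σ.hom.app (op T) (univ K T)

theorem val_repMap {T' : Over S} (k : T' ⟶ T) {F : QuotSh.Sh K S} (σ : QuotSh.rep K T ⟶ F) :
    val K (QuotSh.repMap K k ≫ σ) = F.obj.map k.op (val K σ) := by
  have e : (QuotSh.repMap K k).hom.app (op T') (univ K T') = (QuotSh.rep K T).obj.map k.op (univ K T) := by
    have h1 : (QuotSh.J K S).uliftYoneda.{u + 1}.map k ≫ (QuotSh.repIsoUliftYoneda K T).inv =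
        (QuotSh.repIsoUliftYoneda K T').inv ≫ QuotSh.repMap K k := by
      rw [Iso.comp_inv_eq, Category.assoc, ← AlgStLib.QuotShEff.repMap_iso, Iso.inv_hom_id_assoc]
    have h2 := congrArg (fun φ => φ.hom.app (op T') (elem K (𝟙 T'))) h1
    refine h2.symm.trans ?_
    have h3 := NatTrans.naturality_apply (QuotSh.repIsoUliftYoneda K T).inv.hom k.op (elem K (𝟙 T))
    refine Eq.trans ?_ h3
    show (QuotSh.repIsoUliftYoneda K T).inv.hom.app (op T') (elem K (𝟙 T' ≫ k)) =
      (QuotSh.repIsoUliftYoneda K T).inv.hom.app (op T') (elem K (k ≫ 𝟙 T))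
    rw [Category.id_comp, Category.comp_id]
  show σ.hom.app (op T') ((QuotSh.repMap K k).hom.app (op T') (univ K T')) = _
  rw [e]
  exact NatTrans.naturality_apply σ.hom k.op (univ K T)

theorem val_injective {F : QuotSh.Sh K S} : Function.Injective (fun σ : QuotSh.rep K T ⟶ F => val K σ) := by
  intro σ σ' h
  refine (cancel_epi (QuotSh.repIsoUliftYoneda K T).inv).1
    (ObjectProperty.hom_ext _ (NatTrans.ext (funext fun X => ConcreteCategory.hom_ext _ _ fun a => ?_)))
  have key : ∀ φ : (QuotSh.J K S).uliftYoneda.{u + 1}.obj T ⟶ F,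
      φ.hom.app X a = F.obj.map a.down.op (φ.hom.app (op T) (elem K (𝟙 T))) := fun φ => by
    have := NatTrans.naturality_apply φ.hom a.down.op (elem K (𝟙 T))
    refine Eq.trans ?_ this
    show φ.hom.app X a = φ.hom.app X (elem K (a.down ≫ 𝟙 T))
    rw [Category.comp_id]
    rfl
  rw [key, key]
  exact congrArg (fun z => F.obj.map a.down.op z) h

theorem exists_val {F : QuotSh.Sh K S} (z : F.obj.obj (op T)) : ∃ σ : QuotSh.rep K T ⟶ F, val K σ = z := by
  let φ : (QuotSh.J K S).uliftYoneda.{u + 1}.obj T ⟶ F :=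
    ⟨{ app := fun X => ↾fun a => F.obj.map (a.down : X.unop ⟶ T).op z
       naturality := fun X Y g => by
        refine ConcreteCategory.hom_ext _ _ fun a => ?_
        show F.obj.map (g.unop ≫ a.down).op z = F.obj.map g (F.obj.map a.down.op z)
        rw [op_comp, F.obj.map_comp]
        rfl }⟩
  refine ⟨(QuotSh.repIsoUliftYoneda K T).hom ≫ φ, ?_⟩
  show φ.hom.app (op T) (((QuotSh.repIsoUliftYoneda K T).inv ≫ (QuotSh.repIsoUliftYoneda K T).hom).hom.app (op T)
    (elem K (𝟙 T))) = z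
  rw [Iso.inv_hom_id]
  show F.obj.map (𝟙 T).op z = z
  rw [op_id, F.obj.map_id]
  rfl

theorem isSheaf_val (F : QuotSh.Sh K S) : Presieve.IsSheaf (QuotSh.J K S) F.obj :=
  (isSheaf_iff_isSheaf_of_type _ _).1 F.2

/-- Morphisms out of a representable sheaf agreeing on a covering sieve are equal. -/
theorem rep_hom_ext {F : QuotSh.Sh K S} {σ σ' : QuotSh.rep K T ⟶ F} {R' : Sieve T} (hR : R' ∈ QuotSh.J K S T)
    (h : ∀ ⦃T' : Over S⦄ (k : T' ⟶ T), R' k → QuotSh.repMap K k ≫ σ = QuotSh.repMap K k ≫ σ') : σ = σ' :=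
  val_injective K (((isSheaf_val K F) R' hR).isSeparatedFor.ext fun _ k hk => by
    rw [← val_repMap, ← val_repMap, h k hk])

theorem repMap_comp {V W X : Over S} (g : V ⟶ W) (g' : W ⟶ X) :
    QuotSh.repMap K (g ≫ g') = QuotSh.repMap K g ≫ QuotSh.repMap K g' := by
  rw [← Functor.map_comp, ← Functor.whiskerRight_comp, ← yoneda.map_comp]

/-- The class of a point in the quotient. -/
noncomputable def pr (s t : R ⟶ U) {T : Over S} (a : T ⟶ U) : QuotSh.rep K T ⟶ QuotSh.quot K s t :=
  QuotSh.repMap K a ≫ QuotSh.quotπ K s t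

theorem pr_comp {T' : Over S} (k : T' ⟶ T) (a : T ⟶ U) : QuotSh.repMap K k ≫ pr K s t a = pr K s t (k ≫ a) := by
  rw [pr, pr, repMap_comp, Category.assoc]

theorem pr_eq_iff (h : AlgSp.IsEqvRel s t) (a b : T ⟶ U) : pr K s t a = pr K s t b ↔ Rel s t a b := by
  constructor
  · intro e
    have sq := AlgSpPts.isPullback_quotπ K h
    let φ := sq.lift (QuotSh.repMap K a) (QuotSh.repMap K b) e
    obtain ⟨r, hr⟩ := (QuotSh.J K S).uliftYoneda.{u + 1}.map_surjective
      ((QuotSh.repIsoUliftYoneda K T).inv ≫ φ ≫ (QuotSh.repIsoUliftYoneda K R).hom)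
    have key : ∀ (g : R ⟶ U) (c : T ⟶ U), φ ≫ QuotSh.repMap K g = QuotSh.repMap K c → r ≫ g = c := by
      intro g c hgc
      refine (QuotSh.J K S).uliftYoneda.{u + 1}.map_injective ?_
      rw [Functor.map_comp, hr, Category.assoc, Category.assoc, AlgStLib.QuotShEff.repMap_iso,
        ← Category.assoc φ, hgc, ← AlgStLib.QuotShEff.repMap_iso, Iso.inv_hom_id_assoc]
    exact ⟨r, key t a (sq.lift_fst _ _ _), key s b (sq.lift_snd _ _ _)⟩
  · rintro ⟨r, rfl, rfl⟩
    rw [← pr_comp, ← pr_comp]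
    show _ ≫ QuotSh.repMap K t ≫ _ = _ ≫ QuotSh.repMap K s ≫ _
    rw [QuotSh.quot_condition]

/-- A section of the quotient lifts on a covering sieve. -/
theorem exists_lifts (σ : QuotSh.rep K T ⟶ QuotSh.quot K s t) :
    ∃ R' ∈ QuotSh.J K S T, ∀ ⦃T' : Over S⦄ (k : T' ⟶ T), R' k →
      ∃ a : T' ⟶ U, QuotSh.repMap K k ≫ σ = pr K s t a := by
  have : Epi (QuotSh.quotπ K s t) := by
    unfold QuotSh.quotπ
    infer_instance
  let ψ := (QuotSh.repIsoUliftYoneda K U).inv ≫ QuotSh.quotπ K s t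
  haveI : Epi ψ := epi_comp _ _
  haveI : Sheaf.IsLocallySurjective ψ := (Sheaf.isLocallySurjective_iff_epi ψ).2 inferInstance
  refine ⟨_, Presheaf.imageSieve_mem (QuotSh.J K S) ψ.hom (U := op T) (val K σ), fun T' k hk => ?_⟩
  obtain ⟨a, ha⟩ := hk
  refine ⟨a.down, val_injective K ?_⟩
  show val K (QuotSh.repMap K k ≫ σ) = val K (QuotSh.repMap K a.down ≫ QuotSh.quotπ K s t)
  rw [val_repMap, val_repMap, ← ha]
  show (QuotSh.quotπ K s t).hom.app (op T') ((QuotSh.repIsoUliftYoneda K U).inv.hom.app (op T') a) = _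
  refine Eq.trans ?_ (NatTrans.naturality_apply (QuotSh.quotπ K s t).hom a.down.op (univ K U))
  refine congrArg _ ?_
  refine Eq.trans ?_ (NatTrans.naturality_apply (QuotSh.repIsoUliftYoneda K U).inv.hom a.down.op (elem K (𝟙 U)))
  show (QuotSh.repIsoUliftYoneda K U).inv.hom.app (op T') a =
    (QuotSh.repIsoUliftYoneda K U).inv.hom.app (op T') (elem K (a.down ≫ 𝟙 U))
  rw [Category.comp_id]
  rfl

/-- For the fpqc topology a section of the quotient lifts on a small covering family. -/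
theorem exists_lifts_fpqc (σ : QuotSh.rep Scheme.fpqcPrecoverage T ⟶ QuotSh.quot Scheme.fpqcPrecoverage s t) :
    ∃ (κ : Type u) (W : κ → Over S) (π : ∀ j, W j ⟶ T) (u : ∀ j, W j ⟶ U),
      Presieve.ofArrows (fun j => (W j).left) (fun j => (π j).left) ∈ Scheme.fpqcPrecoverage T.left ∧
      ∀ j, QuotSh.repMap Scheme.fpqcPrecoverage (π j) ≫ σ = pr Scheme.fpqcPrecoverage s t (u j) := by
  obtain ⟨R', hR', hl⟩ := exists_lifts Scheme.fpqcPrecoverage σ
  rw [GrothendieckTopology.mem_over_iff] at hR'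
  obtain ⟨R₀, hR₀, hle⟩ := Precoverage.mem_toGrothendieck_iff_of_isStableUnderComposition.mp hR'
  obtain ⟨κ, X, f, hf, hfR⟩ := TorsTwist.exists_family hR₀
  choose u hu using fun j => hl _ ((Sieve.overEquiv_iff _ _).1 (hle _ _ (hfR j)))
  exact ⟨κ, fun j => Over.mk (f j ≫ T.hom), fun j => Over.homMk (f j), u, hf, hu⟩

/-- Morphisms out of a representable fpqc sheaf agreeing on a covering family are equal. -/
theorem rep_hom_ext_family {F : QuotSh.Sh Scheme.fpqcPrecoverage S} {σ σ' : QuotSh.rep Scheme.fpqcPrecoverage T ⟶ F}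
    {κ : Type u} {X : κ → Scheme.{u}} (f : ∀ j, X j ⟶ T.left)
    (hf : Presieve.ofArrows X f ∈ Scheme.fpqcPrecoverage T.left)
    (h : ∀ ⦃T' : Over S⦄ (k : T' ⟶ T) ⦃j : κ⦄ (x : T'.left ⟶ X j), x ≫ f j = k.left →
      QuotSh.repMap _ k ≫ σ = QuotSh.repMap _ k ≫ σ') : σ = σ' := by
  refine rep_hom_ext Scheme.fpqcPrecoverage (R' := (Sieve.overEquiv T).symm (DescLib.factorSieve f (𝟙 T.left))) ?_
    fun T' k hk => ?_
  · rw [GrothendieckTopology.mem_over_iff]
    show Sieve.overEquiv T ((Sieve.overEquiv T).symm _) ∈ _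
    rw [OrderIso.apply_symm_apply]
    exact DescLib.factorSieve_mem_of_cover f hf _
  · obtain ⟨j, x, hx⟩ := (Sieve.overEquiv_symm_iff _ _).1 hk
    exact h k x (by rw [hx, Category.comp_id])

end Groth.Agent.QuotSec
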