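import Groth.Agent.QuotSec.Quot
import Groth.Agent.AlgSpLib.Descends

/-!
# Sections of quotient sheaves as subschemes
-/

universe u

set_option autoImplicit false
set_option backward.isDefEq.respectTransparency false
set_option backward.isDefEq.respectTransparency.types false
set_option linter.style.haveILetI false
set_option maxHeartbeats 1000000

open CategoryTheory CategoryTheory.Limits MonoidalCategory CartesianMonoidalCategory AlgebraicGeometry

namespace Groth.Agent.QuotSec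

variable {S : Scheme.{u}} {R U T : Over S} {s t : R ⟶ U}

local notation "Kq" => Scheme.fpqcPrecoverage

/-- The equation saying that a point of `U ⊗ T` lifts the section. -/
def Lifts' (s t : R ⟶ U) (σ : QuotSh.rep Kq T ⟶ QuotSh.quot Kq s t) {T' : Over S} (c : T' ⟶ U ⊗ T) : Prop :=
  pr Kq s t (c ≫ fst U T) = QuotSh.repMap Kq (c ≫ snd U T) ≫ σ

theorem Lifts'.comp {σ : QuotSh.rep Kq T ⟶ QuotSh.quot Kq s t} {T' T'' : Over S} {c : T' ⟶ U ⊗ T}
    (e : Lifts' s t σ c) (g : T'' ⟶ T') : Lifts' s t σ (g ≫ c) := by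
  unfold Lifts' at *
  rw [Category.assoc, Category.assoc, ← pr_comp, e, repMap_comp _ g, Category.assoc]

theorem Lifts'.rel (h : AlgSp.IsEqvRel s t) {σ : QuotSh.rep Kq T ⟶ QuotSh.quot Kq s t} {T' : Over S}
    {c c' : T' ⟶ U ⊗ T} (e : Lifts' s t σ c) (e' : Lifts' s t σ c') (hc : c ≫ snd U T = c' ≫ snd U T) :
    Rel s t (c ≫ fst U T) (c' ≫ fst U T) :=
  (pr_eq_iff Kq h _ _).1 (by rw [e, e', hc])

variable (h : AlgSp.IsEqvRel s t) (σ : QuotSh.rep Kq T ⟶ QuotSh.quot Kq s t)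
  {κ : Type u} {W : κ → Over S} {π : ∀ j, W j ⟶ T} {u : ∀ j, W j ⟶ U}
  (hπ : Presieve.ofArrows (fun j => (W j).left) (fun j => (π j).left) ∈ Scheme.fpqcPrecoverage T.left)
  (hu : ∀ j, QuotSh.repMap Kq (π j) ≫ σ = pr Kq s t (u j))

include h hu in
theorem compatible_of_lifts : Compatible s t π u := fun T' j j' x x' e =>
  (pr_eq_iff Kq h _ _).1 (by rw [← pr_comp, ← pr_comp, ← hu, ← hu, ← Category.assoc, ← Category.assoc,
    ← repMap_comp, ← repMap_comp, e])

include h hπ hu in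
/-- The good points are those lifting the section. -/
theorem good_iff {T' : Over S} (c : T' ⟶ U ⊗ T) : Good s t π u c ↔ Lifts' s t σ c := by
  constructor
  · intro hc
    refine rep_hom_ext_family (fun j => pullback.fst (c ≫ snd U T).left (π j).left)
      (Precoverage.mem_coverings_of_isPullback _ hπ (c ≫ snd U T).left _
        (fun j => pullback.snd (c ≫ snd U T).left (π j).left) fun j => IsPullback.of_hasPullback _ _)
      fun T'' k j x hx => ?_
    let y : T'' ⟶ W j := Over.homMk (x ≫ pullback.snd _ _) (by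
      show (x ≫ pullback.snd _ _) ≫ (W j).hom = T''.hom
      rw [← Over.w (π j), Category.assoc, ← pullback.condition_assoc, Over.w, reassoc_of% hx, Over.w k])
    have hy : y ≫ π j = k ≫ c ≫ snd U T := Over.OverMorphism.ext (by
      show (x ≫ pullback.snd _ _) ≫ (π j).left = k.left ≫ (c ≫ snd U T).left
      rw [Category.assoc, ← pullback.condition, reassoc_of% hx])
    rw [pr_comp, (pr_eq_iff Kq h _ _).2 (hc k y hy), ← pr_comp, ← hu, ← Category.assoc, ← repMap_comp, hy,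
      repMap_comp, Category.assoc]
  · intro e T'' g j x hx
    refine (pr_eq_iff Kq h _ _).1 ?_
    rw [← pr_comp Kq g, e, ← Category.assoc, ← repMap_comp, ← hx, repMap_comp, Category.assoc, hu, pr_comp]

variable {Z : Over S} {i : Z ⟶ U ⊗ T}
  (hchar : ∀ ⦃T' : Over S⦄ (c : T' ⟶ U ⊗ T), (∃ z : T' ⟶ Z, z ≫ i = c) ↔ Good s t π u c)

include h hπ hu hchar in
theorem stable_of_char (T' : Over S) (r : T' ⟶ R ⊗ T) :
    (∃ z : T' ⟶ Z, z ≫ i = r ≫ (s ▷ T)) ↔ (∃ z : T' ⟶ Z, z ≫ i = r ≫ (t ▷ T)) := by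
  rw [hchar, hchar, good_iff h σ hπ hu, good_iff h σ hπ hu]
  unfold Lifts'
  have e : pr Kq s t ((r ≫ fst R T) ≫ t) = pr Kq s t ((r ≫ fst R T) ≫ s) :=
    (pr_eq_iff Kq h _ _).2 ⟨r ≫ fst R T, rfl, rfl⟩
  simp only [Category.assoc, whiskerRight_fst, whiskerRight_snd] at e ⊢
  rw [e]

include h hπ hu hchar in
theorem related_of_char (T' : Over S) (z₁ z₂ : T' ⟶ Z) (e : z₁ ≫ i ≫ snd U T = z₂ ≫ i ≫ snd U T) :
    ∃ r : T' ⟶ R, r ≫ s = z₁ ≫ i ≫ fst U T ∧ r ≫ t = z₂ ≫ i ≫ fst U T := by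
  obtain ⟨r, h1, h2⟩ := (rel_of_good h hπ (compatible_of_lifts h σ hu) ((hchar _).1 ⟨z₁, rfl⟩) ((hchar _).1 ⟨z₂, rfl⟩)
    (by simpa using e)).symm h
  exact ⟨r, by simpa using h2, by simpa using h1⟩

include h hπ hu hchar in
theorem lifts_of_char :
    QuotSh.repMap Kq (i ≫ fst U T) ≫ QuotSh.quotπ Kq s t = QuotSh.repMap Kq (i ≫ snd U T) ≫ σ :=
  (good_iff h σ hπ hu i).1 ((hchar i).1 ⟨𝟙 Z, Category.id_comp i⟩)

include h in
/-- Uniqueness of the subscheme inducing a section. -/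
theorem exists_iso_of_lifts {Z Z' : Over S} (i : Z ⟶ U ⊗ T) (i' : Z' ⟶ U ⊗ T) [Mono i] [Mono i']
    (hst : ∀ (T' : Over S) (r : T' ⟶ R ⊗ T),
      (∃ z : T' ⟶ Z, z ≫ i = r ≫ (s ▷ T)) ↔ (∃ z : T' ⟶ Z, z ≫ i = r ≫ (t ▷ T)))
    (hst' : ∀ (T' : Over S) (r : T' ⟶ R ⊗ T),
      (∃ z : T' ⟶ Z', z ≫ i' = r ≫ (s ▷ T)) ↔ (∃ z : T' ⟶ Z', z ≫ i' = r ≫ (t ▷ T)))
    [Flat (i ≫ snd U T).left] [Surjective (i ≫ snd U T).left] [QuasiCompact (i ≫ snd U T).left]
    [Flat (i' ≫ snd U T).left] [Surjective (i' ≫ snd U T).left] [QuasiCompact (i' ≫ snd U T).left]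
    (e : Lifts' s t σ i) (e' : Lifts' s t σ i') : ∃ E : Z ≅ Z', E.hom ≫ i' = i := by
  obtain ⟨a, ha⟩ := good_point_factor h hst' i fun T'' g z' hz => by
    have := (e.comp g).rel h (e'.comp z') (by simpa using hz.symm)
    simpa using this
  obtain ⟨b, hb⟩ := good_point_factor h hst i' fun T'' g z' hz => by
    have := (e'.comp g).rel h (e.comp z') (by simpa using hz.symm)
    simpa using this
  exact ⟨⟨a, b, (cancel_mono i).1 (by rw [Category.assoc, hb, ha, Category.id_comp]),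
    (cancel_mono i').1 (by rw [Category.assoc, ha, hb, Category.id_comp])⟩, ha⟩

end Groth.Agent.QuotSec
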